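import Mathlib

/-!
# Homogeneous prime avoidance (helper6)

For a homogeneous ideal `I` contained in the irrelevant ideal of an `ℕ`-graded ring and finitely many
prime ideals (not necessarily homogeneous) none of which contains `I`, there is a homogeneous element of
positive degree of `I` lying in none of the primes.
-/

namespace Groth.Agent.Helper6.GeomHt

open DirectSum

universe u v
variable {R : Type u} {A : Type v} [CommRing R] [CommRing A] [Algebra R A]
  (𝒜 : ℕ → Submodule R A) [GradedRing 𝒜]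

theorem exists_homogeneous_notMem_aux (I : Ideal A) (hI : I.IsHomogeneous 𝒜)
    (hIirr : I ≤ (HomogeneousIdeal.irrelevant 𝒜).toIdeal) :
    ∀ (n : ℕ) (S : Finset (Ideal A)), S.card = n → (∀ q ∈ S, q.IsPrime ∧ ¬ I ≤ q) →
      ∃ d : ℕ, 0 < d ∧ ∃ z ∈ 𝒜 d, z ∈ I ∧ ∀ q ∈ S, z ∉ q := by
  intro n
  induction n with
  | zero =>
    intro S hS _
    rw [Finset.card_eq_zero] at hS
    subst hS
    exact ⟨1, Nat.one_pos, 0, zero_mem _, zero_mem _, by simp⟩
  | succ n ih =>
    intro S hS hq
    classical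
    have key : ∀ q ∈ S, ∃ d : ℕ, 0 < d ∧ ∃ z ∈ 𝒜 d, z ∈ I ∧ ∀ q' ∈ S.erase q, z ∉ q' := by
      intro q hqS
      exact ih (S.erase q) (by rw [Finset.card_erase_of_mem hqS, hS]; rfl)
        (fun q' hq' => hq q' (Finset.mem_of_mem_erase hq'))
    choose! d hd x hxd hxI hx using key
    by_cases hex : ∃ q ∈ S, x q ∉ q
    · obtain ⟨q, hqS, hxq⟩ := hex
      refine ⟨d q, hd q hqS, x q, hxd q hqS, hxI q hqS, ?_⟩
      intro q' hq'
      by_cases hqq : q' = q
      · subst hqq; exact hxq
      · exact hx q hqS q' (Finset.mem_erase.mpr ⟨hqq, hq'⟩)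
    · push_neg at hex
      rcases Nat.eq_zero_or_pos n with hn | hn
      · -- singleton case
        subst hn
        obtain ⟨q, rfl⟩ := Finset.card_eq_one.mp hS
        have hq1 := hq q (Finset.mem_singleton_self q)
        obtain ⟨a, haI, haq⟩ := SetLike.not_le_iff_exists.mp hq1.2
        have hcomp : ∃ i, (decompose 𝒜 a i : A) ∉ q := by
          by_contra hcon
          push_neg at hcon
          apply haq
          rw [← DirectSum.sum_support_decompose 𝒜 a]
          exact sum_mem (fun i _ => hcon i)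
        obtain ⟨i, hi⟩ := hcomp
        have hiI : (decompose 𝒜 a i : A) ∈ I := hI i haI
        obtain ⟨z, hz⟩ : ∃ z : A, z = (decompose 𝒜 a i : A) := ⟨_, rfl⟩
        have hzi : z ∈ 𝒜 i := hz ▸ SetLike.coe_mem _
        rw [← hz] at hi hiI
        have hipos : 0 < i := by
          rcases Nat.eq_zero_or_pos i with h0 | h0
          · exfalso
            subst h0
            have h1 : GradedRing.proj 𝒜 0 z = 0 :=
              (HomogeneousIdeal.mem_irrelevant_iff 𝒜 z).mp (hIirr hiI)
            rw [GradedRing.proj_apply, DirectSum.decompose_of_mem_same 𝒜 hzi] at h1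
            exact hi (h1 ▸ q.zero_mem)
          · exact h0
        refine ⟨i, hipos, z, hzi, hiI, ?_⟩
        intro q' hq'
        rw [Finset.mem_singleton.mp hq']
        exact hi
      · -- general case
        have hSne : S.Nonempty := Finset.card_pos.mp (by omega)
        obtain ⟨q₁, hq₁⟩ := hSne
        have hq₁p : q₁.IsPrime := (hq q₁ hq₁).1
        have hTne : (S.erase q₁).Nonempty := by
          rw [← Finset.card_pos, Finset.card_erase_of_mem hq₁, hS]
          simpa using hn
        obtain ⟨y, hy⟩ : ∃ y : A, y = ∏ q ∈ S.erase q₁, x q := ⟨_, rfl⟩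
        obtain ⟨D, hD⟩ : ∃ D : ℕ, D = ∑ q ∈ S.erase q₁, d q := ⟨_, rfl⟩
        have hyD : y ∈ 𝒜 D := by
          rw [hy, hD]
          exact SetLike.prod_mem_graded 𝒜 d x
            (fun q hq' => hxd q (Finset.mem_of_mem_erase hq'))
        have hDpos : 0 < D := by
          rw [hD]
          exact Finset.sum_pos (fun q hq' => hd q (Finset.mem_of_mem_erase hq')) hTne
        have hdvd : ∀ q ∈ S.erase q₁, x q ∣ y := fun q hq' => hy ▸ Finset.dvd_prod_of_mem x hq'
        have hyI : y ∈ I := by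
          obtain ⟨q₂, hq₂⟩ := hTne
          obtain ⟨c, hc⟩ := hdvd q₂ hq₂
          rw [hc]
          exact I.mul_mem_right _ (hxI q₂ (Finset.mem_of_mem_erase hq₂))
        have hd₁ : 0 < d q₁ := hd q₁ hq₁
        have h1 : x q₁ ^ D ∈ 𝒜 (d q₁ * D) := by
          have h0 := SetLike.pow_mem_graded D (hxd q₁ hq₁)
          simpa [smul_eq_mul, mul_comm] using h0
        have h2 : y ^ d q₁ ∈ 𝒜 (d q₁ * D) := by
          have h0 := SetLike.pow_mem_graded (d q₁) hyD
          simpa [smul_eq_mul] using h0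
        refine ⟨d q₁ * D, Nat.mul_pos hd₁ hDpos, x q₁ ^ D + y ^ d q₁, add_mem h1 h2,
          I.add_mem (I.pow_mem_of_mem (hxI q₁ hq₁) D hDpos) (I.pow_mem_of_mem hyI _ hd₁), ?_⟩
        intro q hqS hzq
        have hqp : q.IsPrime := (hq q hqS).1
        by_cases hqq : q = q₁
        · subst hqq
          have hxq : x q ^ D ∈ q := q.pow_mem_of_mem (hex q hqS) D hDpos
          have hyq : y ^ d q ∈ q := (Ideal.add_mem_iff_right q hxq).mp hzq
          have hyq' : y ∈ q := hqp.mem_of_pow_mem _ hyq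
          rw [hy, Ideal.IsPrime.prod_mem_iff] at hyq'
          obtain ⟨q', hq'T, hq'q⟩ := hyq'
          have hq'S : q' ∈ S := Finset.mem_of_mem_erase hq'T
          have hne : q ≠ q' := fun e => (Finset.mem_erase.mp hq'T).1 e.symm
          exact hx q' hq'S q (Finset.mem_erase.mpr ⟨hne, hqS⟩) hq'q
        · have hqT : q ∈ S.erase q₁ := Finset.mem_erase.mpr ⟨hqq, hqS⟩
          have hyq : y ∈ q := by
            obtain ⟨c, hc⟩ := hdvd q hqT
            rw [hc]
            exact q.mul_mem_right _ (hex q hqS)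
          have hyq' : y ^ d q₁ ∈ q := q.pow_mem_of_mem hyq _ hd₁
          have hxq : x q₁ ^ D ∈ q := (Ideal.add_mem_iff_left q hyq').mp hzq
          exact hx q₁ hq₁ q hqT (hqp.mem_of_pow_mem _ hxq)

/-- Homogeneous prime avoidance. -/
theorem exists_homogeneous_notMem (I : Ideal A) (hI : I.IsHomogeneous 𝒜)
    (hIirr : I ≤ (HomogeneousIdeal.irrelevant 𝒜).toIdeal) (S : Finset (Ideal A))
    (hS : ∀ q ∈ S, q.IsPrime ∧ ¬ I ≤ q) :
    ∃ d : ℕ, 0 < d ∧ ∃ z ∈ 𝒜 d, z ∈ I ∧ ∀ q ∈ S, z ∉ q :=
  exists_homogeneous_notMem_aux 𝒜 I hI hIirr S.card S rfl hS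

end Groth.Agent.Helper6.GeomHt
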