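import Mathlib
import Groth.Prelude.Def_W4c2ratsingkovacsGH
import Groth.Agent.Lib.Helper6.GeomHt.Avoid

/-!
# Homogeneous localisation of ideals and heights (helper6)

Basic facts on `W4c2ratsingkovacs.locIdeal 𝒜 J f` (the ideal `J_(f)` of `A_(f)`), the correspondence
between primes of `A_(f)` and homogeneous primes of `A` avoiding `f` (via Mathlib's
`ProjIsoSpecTopComponent`), and the comparison of heights.
-/

namespace Groth.Agent.Helper6.GeomHt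

open DirectSum W4c2ratsingkovacs HomogeneousLocalization

universe u v
variable {R : Type u} {A : Type v} [CommRing R] [CommRing A] [Algebra R A]
  (𝒜 : ℕ → Submodule R A) [GradedRing 𝒜]

lemma mem_locIdeal_iff (J : Ideal A) (f : A) (y : Away 𝒜 f) :
    y ∈ locIdeal 𝒜 J f ↔ y.val ∈ J.map (algebraMap A (Localization.Away f)) := Iff.rfl

lemma locIdeal_mono {I J : Ideal A} (h : I ≤ J) (f : A) : locIdeal 𝒜 I f ≤ locIdeal 𝒜 J f :=
  Ideal.comap_mono (Ideal.map_mono h)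

lemma awayMk_mem_locIdeal_iff (J : Ideal A) {f : A} {m : ℕ} (hf : f ∈ 𝒜 m) (n : ℕ) (x : A)
    (hx : x ∈ 𝒜 (n • m)) :
    Away.mk 𝒜 hf n x hx ∈ locIdeal 𝒜 J f ↔ ∃ k : ℕ, f ^ k * x ∈ J := by
  rw [mem_locIdeal_iff, Away.val_mk, Localization.mk_eq_mk'_apply,
    IsLocalization.mk'_mem_map_algebraMap_iff (Submonoid.powers f)]
  constructor
  · rintro ⟨s, hs, hsx⟩
    obtain ⟨k, rfl⟩ := (Submonoid.mem_powers_iff _ _).mp hs
    exact ⟨k, hsx⟩
  · rintro ⟨k, hk⟩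
    exact ⟨f ^ k, ⟨k, rfl⟩, hk⟩

lemma awayMk_mem_locIdeal_prime_iff (q : Ideal A) [hq : q.IsPrime] {f : A} (hfq : f ∉ q) {m : ℕ}
    (hf : f ∈ 𝒜 m) (n : ℕ) (x : A) (hx : x ∈ 𝒜 (n • m)) :
    Away.mk 𝒜 hf n x hx ∈ locIdeal 𝒜 q f ↔ x ∈ q := by
  rw [awayMk_mem_locIdeal_iff]
  constructor
  · rintro ⟨k, hk⟩
    exact (hq.mem_or_mem hk).resolve_left (fun h => hfq (hq.mem_of_pow_mem _ h))
  · intro h
    exact ⟨0, by simpa using h⟩

lemma locIdeal_isPrime (q : Ideal A) [hq : q.IsPrime] {f : A} (hfq : f ∉ q) :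
    (locIdeal 𝒜 q f).IsPrime := by
  have hd : Disjoint (Submonoid.powers f : Set A) (q : Set A) :=
    (Ideal.disjoint_powers_iff_notMem_of_isPrime f).mpr hfq
  haveI : (q.map (algebraMap A (Localization.Away f))).IsPrime :=
    IsLocalization.isPrime_of_isPrime_disjoint (Submonoid.powers f) _ q hq hd
  exact Ideal.comap_isPrime _ _

lemma locIdeal_ne_top {J : Ideal A} {f : A} (hf : f ∉ J.radical) : locIdeal 𝒜 J f ≠ ⊤ := by
  intro h
  have h1 : (1 : Away 𝒜 f) ∈ locIdeal 𝒜 J f := h ▸ Submodule.mem_top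
  rw [mem_locIdeal_iff, HomogeneousLocalization.val_one] at h1
  have h2 : J.map (algebraMap A (Localization.Away f)) = ⊤ := (Ideal.eq_top_iff_one _).mpr h1
  have hdisj : Disjoint (Submonoid.powers f : Set A) (J : Set A) := by
    rw [Set.disjoint_left]
    intro a ha haJ
    obtain ⟨k, rfl⟩ := (Submonoid.mem_powers_iff _ _).mp ha
    exact hf (Ideal.mem_radical_iff.mpr ⟨k, haJ⟩)
  exact (IsLocalization.map_algebraMap_ne_top_iff_disjoint (Submonoid.powers f)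
    (Localization.Away f) J).mpr hdisj h2

lemma le_of_locIdeal_le {I q : Ideal A} (hI : I.IsHomogeneous 𝒜) [hq : q.IsPrime] {f : A} {m : ℕ}
    (hf : f ∈ 𝒜 m) (hm : 0 < m) (hfq : f ∉ q)
    (h : locIdeal 𝒜 I f ≤ locIdeal 𝒜 q f) : I ≤ q := by
  intro a ha
  classical
  rw [← DirectSum.sum_support_decompose 𝒜 a]
  refine sum_mem (fun i _ => ?_)
  have hai : (decompose 𝒜 a i : A) ∈ I := hI i ha
  obtain ⟨z, hz⟩ : ∃ z : A, z = (decompose 𝒜 a i : A) := ⟨_, rfl⟩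
  have hzi : z ∈ 𝒜 i := hz ▸ SetLike.coe_mem _
  rw [← hz] at hai ⊢
  have hzm : z ^ m ∈ 𝒜 (i • m) := by
    have h0 := SetLike.pow_mem_graded m hzi
    simpa [smul_eq_mul, mul_comm] using h0
  have h1 : Away.mk 𝒜 hf i (z ^ m) hzm ∈ locIdeal 𝒜 I f :=
    (awayMk_mem_locIdeal_iff 𝒜 I hf i _ hzm).mpr ⟨0, by simpa using I.pow_mem_of_mem hai m hm⟩
  have h2 := (awayMk_mem_locIdeal_prime_iff 𝒜 q hfq hf i _ hzm).mp (h h1)
  exact hq.mem_of_pow_mem m h2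

/-- Every prime of `A_(f)` is `𝔭_(f)` for a homogeneous prime `𝔭` of `A` not containing `f`. -/
lemma exists_proj_locIdeal_eq {f : A} {m : ℕ} (hf : f ∈ 𝒜 m) (hm : 0 < m)
    (P : PrimeSpectrum (Away 𝒜 f)) :
    ∃ p : Ideal A, p.IsPrime ∧ p.IsHomogeneous 𝒜 ∧ f ∉ p ∧ locIdeal 𝒜 p f = P.asIdeal := by
  obtain ⟨x, hx⟩ := AlgebraicGeometry.ProjIsoSpecTopComponent.toSpec_surjective 𝒜 hf hm P
  exact ⟨x.1.asHomogeneousIdeal.toIdeal, x.1.isPrime, x.1.asHomogeneousIdeal.isHomogeneous, x.2,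
    congrArg PrimeSpectrum.asIdeal hx⟩

lemma height_locIdeal_le {f : A} {m : ℕ} (hf : f ∈ 𝒜 m) (hm : 0 < m) (p : Ideal A)
    [hp : p.IsPrime] (hph : p.IsHomogeneous 𝒜) (hfp : f ∉ p) :
    (locIdeal 𝒜 p f).height ≤ p.height := by
  classical
  choose g hg1 hg2 hg3 hg4 using
    fun P : PrimeSpectrum (Away 𝒜 f) => exists_proj_locIdeal_eq 𝒜 hf hm P
  obtain ⟨G, hG⟩ : ∃ G : PrimeSpectrum (Away 𝒜 f) → PrimeSpectrum A, ∀ P, (G P).asIdeal = g P :=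
    ⟨fun P => ⟨g P, hg1 P⟩, fun _ => rfl⟩
  have hmono : StrictMono G := by
    intro P Q hPQ
    have hle : G P ≤ G Q := by
      rw [← PrimeSpectrum.asIdeal_le_asIdeal, hG, hG]
      haveI := hg1 Q
      refine le_of_locIdeal_le 𝒜 (hg2 P) hf hm (hg3 Q) ?_
      rw [hg4 P, hg4 Q]
      exact (PrimeSpectrum.asIdeal_le_asIdeal P Q).mpr hPQ.le
    refine lt_of_le_of_ne hle (fun heq => hPQ.ne ?_)
    have h1 : g P = g Q := by rw [← hG, ← hG, heq]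
    exact PrimeSpectrum.ext (by rw [← hg4 P, ← hg4 Q, h1])
  haveI hpr := locIdeal_isPrime 𝒜 p hfp
  obtain ⟨P0, hP0⟩ : ∃ P0 : PrimeSpectrum (Away 𝒜 f), P0.asIdeal = locIdeal 𝒜 p f :=
    ⟨⟨locIdeal 𝒜 p f, hpr⟩, rfl⟩
  have hG0 : G P0 = ⟨p, hp⟩ := by
    apply PrimeSpectrum.ext
    show (G P0).asIdeal = p
    rw [hG]
    haveI := hg1 P0
    apply le_antisymm
    · exact le_of_locIdeal_le 𝒜 (hg2 P0) hf hm hfp (by rw [hg4 P0, hP0])
    · exact le_of_locIdeal_le 𝒜 hph hf hm (hg3 P0) (by rw [hg4 P0, hP0])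
  calc (locIdeal 𝒜 p f).height = P0.asIdeal.height := by rw [hP0]
    _ = Order.height P0 := PrimeSpectrum.height_eq_orderHeight P0
    _ ≤ Order.height (G P0) := Order.height_le_height_apply_of_strictMono G hmono P0
    _ = Order.height (⟨p, hp⟩ : PrimeSpectrum A) := by rw [hG0]
    _ = p.height := (PrimeSpectrum.height_eq_orderHeight ⟨p, hp⟩).symm

lemma mem_minimalPrimes_of_locIdeal (I : Ideal A) (hI : I.IsHomogeneous 𝒜) {f : A} {m : ℕ}
    (hf : f ∈ 𝒜 m) (hm : 0 < m) (p : Ideal A) [hp : p.IsPrime] (hph : p.IsHomogeneous 𝒜)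
    (hfp : f ∉ p) (hmin : locIdeal 𝒜 p f ∈ (locIdeal 𝒜 I f).minimalPrimes) :
    p ∈ I.minimalPrimes := by
  refine ⟨⟨hp, le_of_locIdeal_le 𝒜 hI hf hm hfp hmin.1.2⟩, ?_⟩
  rintro q ⟨hqp, hIq⟩ hqle
  haveI := hqp
  have hfq : f ∉ q := fun h => hfp (hqle h)
  haveI hq' := locIdeal_isPrime 𝒜 q hfq
  have h1 : locIdeal 𝒜 p f ≤ locIdeal 𝒜 q f :=
    hmin.2 ⟨hq', locIdeal_mono 𝒜 hIq f⟩ (locIdeal_mono 𝒜 hqle f)
  exact le_of_locIdeal_le 𝒜 hph hf hm hfq h1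

lemma height_le_of_mem_minimalPrimes_locIdeal_ofList [IsNoetherianRing A] (zs : List A)
    (hzs : ∀ z ∈ zs, SetLike.IsHomogeneousElem 𝒜 z) {f : A} {m : ℕ} (hf : f ∈ 𝒜 m) (hm : 0 < m)
    (P : Ideal (Away 𝒜 f)) (hP : P ∈ (locIdeal 𝒜 (Ideal.ofList zs) f).minimalPrimes) :
    P.height ≤ zs.length := by
  classical
  haveI hPp : P.IsPrime := hP.1.1
  obtain ⟨p, hp, hph, hfp, hpP⟩ := exists_proj_locIdeal_eq 𝒜 hf hm ⟨P, hPp⟩
  haveI := hp
  have hpP' : locIdeal 𝒜 p f = P := hpP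
  have hmin : p ∈ (Ideal.ofList zs).minimalPrimes :=
    mem_minimalPrimes_of_locIdeal 𝒜 _ (Ideal.homogeneous_span 𝒜 _ (fun x hx => hzs x hx)) hf hm p
      hph hfp (hpP' ▸ hP)
  have e : Ideal.ofList zs = Ideal.span ((zs.toFinset : Finset A) : Set A) := by
    rw [List.coe_toFinset]
  have h1 : p.height ≤ zs.length := by
    rw [e] at hmin
    refine (Ideal.height_le_card_of_mem_minimalPrimes_span_finset hmin).trans ?_
    exact_mod_cast List.toFinset_card_le zs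
  calc P.height = (locIdeal 𝒜 p f).height := by rw [hpP']
    _ ≤ p.height := height_locIdeal_le 𝒜 hf hm p hph hfp
    _ ≤ zs.length := h1

end Groth.Agent.Helper6.GeomHt
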