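import Mathlib
import Groth.Prelude.Def_W4c2ratsingkovacsGH
import Groth.Agent.Lib.Helper6.GeomHt.Loc

/-!
# Homogeneous sequences of prescribed geometric height (helper6)
-/

namespace Groth.Agent.Helper6.GeomHt

open DirectSum W4c2ratsingkovacs HomogeneousLocalization

universe u v
variable {R : Type u} {A : Type v} [CommRing R] [CommRing A] [Algebra R A]
  (𝒜 : ℕ → Submodule R A) [GradedRing 𝒜]

lemma geomHeight_snoc [IsNoetherianRing A] (J : Ideal A) (h : ℕ)
    (hJh : HasUniformGeomHeight 𝒜 J h)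
    (zs : List A) (hzs : ∀ z ∈ zs, SetLike.IsHomogeneousElem 𝒜 z) (hzsJ : ∀ z ∈ zs, z ∈ J)
    (hlen : zs.length < h)
    (z : A) {d : ℕ} (hzd : z ∈ 𝒜 d) (hzJ : z ∈ J)
    (hzavoid : ∀ p ∈ (Ideal.ofList zs).minimalPrimes,
      ¬ (HomogeneousIdeal.irrelevant 𝒜).toIdeal ≤ p → ¬ J ≤ p → z ∉ p)
    {f : A} {n : ℕ} (hn : 0 < n) (hf : f ∈ 𝒜 n) (hfJ : f ∉ J.radical)
    (hprev : (zs.length : ℕ∞) ≤ geomHeight 𝒜 (Ideal.ofList zs) f) :
    geomHeight 𝒜 (Ideal.ofList (zs ++ [z])) f = ((zs.length + 1 : ℕ) : ℕ∞) := by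
  have hI'J : Ideal.ofList (zs ++ [z]) ≤ J := by
    rw [Ideal.ofList, Ideal.span_le]
    intro w hw
    rcases List.mem_append.mp hw with hw | hw
    · exact hzsJ w hw
    · rw [List.mem_singleton.mp hw]; exact hzJ
  have hII' : Ideal.ofList zs ≤ Ideal.ofList (zs ++ [z]) := by
    rw [Ideal.ofList_append]; exact le_sup_left
  have hzI' : z ∈ Ideal.ofList (zs ++ [z]) :=
    Ideal.subset_span (List.mem_append_right _ (List.mem_singleton_self z))
  have hzs' : ∀ w ∈ zs ++ [z], SetLike.IsHomogeneousElem 𝒜 w := by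
    intro w hw
    rcases List.mem_append.mp hw with hw | hw
    · exact hzs w hw
    · rw [List.mem_singleton.mp hw]; exact ⟨d, hzd⟩
  have hfI' : f ∉ (Ideal.ofList (zs ++ [z])).radical :=
    fun hc => hfJ (Ideal.radical_mono hI'J hc)
  have hne : locIdeal 𝒜 (Ideal.ofList (zs ++ [z])) f ≠ ⊤ := locIdeal_ne_top 𝒜 hfI'
  apply le_antisymm
  · obtain ⟨P, hP⟩ := Ideal.nonempty_minimalPrimes hne
    have h1 := height_le_of_mem_minimalPrimes_locIdeal_ofList 𝒜 (zs ++ [z]) hzs' hf hn P hP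
    have h2 : (locIdeal 𝒜 (Ideal.ofList (zs ++ [z])) f).height ≤ P.height := by
      rw [Ideal.height_eq_inf_minimalPrimes]; exact iInf₂_le P hP
    refine (h2.trans h1).trans ?_
    simp
  · show ((zs.length + 1 : ℕ) : ℕ∞) ≤ (locIdeal 𝒜 (Ideal.ofList (zs ++ [z])) f).height
    rw [Ideal.height_eq_inf_minimalPrimes]
    refine le_iInf₂ (fun P hP => ?_)
    haveI hPp : P.IsPrime := hP.1.1
    have hIP : locIdeal 𝒜 (Ideal.ofList zs) f ≤ P := (locIdeal_mono 𝒜 hII' f).trans hP.1.2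
    obtain ⟨P', hP'min, hP'le⟩ := Ideal.exists_minimalPrimes_le hIP
    haveI hP'p : P'.IsPrime := hP'min.1.1
    obtain ⟨p', hp', hp'h, hfp', hp'P'⟩ := exists_proj_locIdeal_eq 𝒜 hf hn ⟨P', hP'p⟩
    haveI := hp'
    have hp'P'' : locIdeal 𝒜 p' f = P' := hp'P'
    have hp'min : p' ∈ (Ideal.ofList zs).minimalPrimes :=
      mem_minimalPrimes_of_locIdeal 𝒜 _ (Ideal.homogeneous_span 𝒜 _ (fun x hx => hzs x hx)) hf hn p'
        hp'h hfp' (hp'P'' ▸ hP'min)
    have hirr : ¬ (HomogeneousIdeal.irrelevant 𝒜).toIdeal ≤ p' :=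
      fun hle => hfp' (hle (HomogeneousIdeal.mem_irrelevant_of_mem 𝒜 hn hf))
    have hP'ht : P'.height ≤ zs.length :=
      height_le_of_mem_minimalPrimes_locIdeal_ofList 𝒜 zs hzs hf hn P' hP'min
    have hJp' : ¬ J ≤ p' := by
      intro hle
      have h1 : locIdeal 𝒜 J f ≤ P' := hp'P'' ▸ locIdeal_mono 𝒜 hle f
      have h2 : (locIdeal 𝒜 J f).height = h := hJh f n hn hf hfJ
      have h3 : ((h : ℕ) : ℕ∞) ≤ zs.length := by
        rw [← h2]; exact (Ideal.height_mono h1).trans hP'ht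
      have h4 : h ≤ zs.length := by exact_mod_cast h3
      omega
    have hzp' : z ∉ p' := hzavoid p' hp'min hirr hJp'
    have hzn : z ^ n ∈ 𝒜 (d • n) := by
      have h0 := SetLike.pow_mem_graded n hzd
      simpa [smul_eq_mul, mul_comm] using h0
    have hwP : Away.mk 𝒜 hf d (z ^ n) hzn ∈ P :=
      hP.1.2 ((awayMk_mem_locIdeal_iff 𝒜 _ hf d _ hzn).mpr
        ⟨0, by simpa using Ideal.pow_mem_of_mem _ hzI' n hn⟩)
    have hwP' : Away.mk 𝒜 hf d (z ^ n) hzn ∉ P' := by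
      rw [← hp'P'', awayMk_mem_locIdeal_prime_iff 𝒜 p' hfp' hf d _ hzn]
      exact fun hc => hzp' (hp'.mem_of_pow_mem n hc)
    have hlt : P' < P := lt_of_le_of_ne hP'le (fun e => hwP' (e ▸ hwP))
    have h5 : P'.height + 1 ≤ P.height := Ideal.height_add_one_le_of_lt_of_isPrime hlt
    have h6 : (zs.length : ℕ∞) ≤ P'.height := by
      refine hprev.trans ?_
      show (locIdeal 𝒜 (Ideal.ofList zs) f).height ≤ P'.height
      rw [Ideal.height_eq_inf_minimalPrimes]; exact iInf₂_le P' hP'min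
    calc ((zs.length + 1 : ℕ) : ℕ∞) = (zs.length : ℕ∞) + 1 := Nat.cast_succ _
      _ ≤ P'.height + 1 := by gcongr
      _ ≤ P.height := h5

theorem main [IsNoetherianRing A] (J : Ideal A) (hJ : J.IsHomogeneous 𝒜) (h : ℕ)
    (hJh : HasUniformGeomHeight 𝒜 J h) (P : Finset (Ideal A))
    (hP : ∀ q ∈ P, q.IsPrime ∧ ¬ J ≤ q ∧ ¬ (HomogeneousIdeal.irrelevant 𝒜).toIdeal ≤ q) :
    ∃ zs : List A, zs.length = h ∧
      (∀ z ∈ zs, (∃ n : ℕ, 0 < n ∧ z ∈ 𝒜 n) ∧ z ∈ J ∧ ∀ q ∈ P, z ∉ q) ∧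
      ∀ (f : A) (n : ℕ), 0 < n → f ∈ 𝒜 n → f ∉ J.radical →
        ∀ j : ℕ, 1 ≤ j → j ≤ h →
          geomHeight 𝒜 (Ideal.ofList (zs.take j)) f = j := by
  have key : ∀ k : ℕ, k ≤ h → ∃ zs : List A, zs.length = k ∧
      (∀ z ∈ zs, (∃ n : ℕ, 0 < n ∧ z ∈ 𝒜 n) ∧ z ∈ J ∧ ∀ q ∈ P, z ∉ q) ∧
      ∀ (f : A) (n : ℕ), 0 < n → f ∈ 𝒜 n → f ∉ J.radical →
        ∀ j : ℕ, 1 ≤ j → j ≤ k →
          geomHeight 𝒜 (Ideal.ofList (zs.take j)) f = j := by
    intro k
    induction k with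
    | zero =>
      intro _
      exact ⟨[], rfl, by simp, fun f n _ _ _ j hj1 hj0 => by omega⟩
    | succ k ih =>
      intro hk
      obtain ⟨zs, hlen, hgood, hht⟩ := ih (by omega)
      classical
      have hfinS : (Ideal.ofList zs).minimalPrimes.Finite :=
        Ideal.finite_minimalPrimes_of_isNoetherianRing A _
      obtain ⟨S, hS⟩ : ∃ S : Finset (Ideal A), ∀ q, q ∈ S ↔
          (q ∈ P ∨ (q ∈ (Ideal.ofList zs).minimalPrimes ∧
            ¬ (HomogeneousIdeal.irrelevant 𝒜).toIdeal ≤ q ∧ ¬ J ≤ q)) :=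
        ⟨P ∪ hfinS.toFinset.filter
          (fun q => ¬ (HomogeneousIdeal.irrelevant 𝒜).toIdeal ≤ q ∧ ¬ J ≤ q),
          fun q => by simp [Finset.mem_union, Finset.mem_filter, Set.Finite.mem_toFinset]⟩
      have hSprop : ∀ q ∈ S, q.IsPrime ∧
          ¬ (J * (HomogeneousIdeal.irrelevant 𝒜).toIdeal) ≤ q := by
        intro q hq
        rcases (hS q).mp hq with hq | ⟨hq1, hq2, hq3⟩
        · obtain ⟨hqp, h1, h2⟩ := hP q hq
          exact ⟨hqp, fun hle => (hqp.mul_le.mp hle).elim h1 h2⟩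
        · have hqp : q.IsPrime := hq1.1.1
          exact ⟨hqp, fun hle => (hqp.mul_le.mp hle).elim hq3 hq2⟩
      obtain ⟨d, hd, z, hzd, hzI, hzS⟩ := exists_homogeneous_notMem 𝒜
        (J * (HomogeneousIdeal.irrelevant 𝒜).toIdeal)
        (hJ.mul (HomogeneousIdeal.irrelevant 𝒜).isHomogeneous) Ideal.mul_le_right S hSprop
      have hzJ : z ∈ J := Ideal.mul_le_left hzI
      refine ⟨zs ++ [z], by simp [hlen], ?_, ?_⟩
      · intro w hw
        rcases List.mem_append.mp hw with hw | hw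
        · exact hgood w hw
        · rw [List.mem_singleton.mp hw]
          exact ⟨⟨d, hd, hzd⟩, hzJ, fun q hq => hzS q ((hS q).mpr (Or.inl hq))⟩
      · intro f n hn hf hfJ j hj1 hjk
        rcases Nat.lt_or_ge j (k + 1) with hlt | hge
        · have e1 : (zs ++ [z]).take j = zs.take j :=
            List.take_append_of_le_length (by omega)
          rw [e1]
          exact hht f n hn hf hfJ j hj1 (by omega)
        · have hj : j = k + 1 := by omega
          subst hj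
          have e1 : (zs ++ [z]).take (k + 1) = zs ++ [z] :=
            List.take_of_length_le (by simp [hlen])
          rw [e1]
          have hprev : (zs.length : ℕ∞) ≤ geomHeight 𝒜 (Ideal.ofList zs) f := by
            rcases Nat.eq_zero_or_pos k with hk0 | hk0
            · rw [hlen, hk0]; simp
            · have h1 := hht f n hn hf hfJ k hk0 le_rfl
              rw [List.take_of_length_le (by omega)] at h1
              rw [h1, hlen]
          have h2 := geomHeight_snoc 𝒜 J h hJh zs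
            (fun w hw => (hgood w hw).1.elim fun n hn => ⟨n, hn.2⟩)
            (fun w hw => (hgood w hw).2.1) (by omega) z hzd hzJ
            (fun p hp h1 h2 => hzS p ((hS p).mpr (Or.inr ⟨hp, h1, h2⟩))) hn hf hfJ hprev
          rw [h2, hlen]
  obtain ⟨zs, h1, h2, h3⟩ := key h le_rfl
  exact ⟨zs, h1, h2, h3⟩

end Groth.Agent.Helper6.GeomHt
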